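import Mathlib

open PowerSeries

universe u

namespace Helper5.PSAlg

variable {k : Type u} [Field k] (A : Subalgebra k (PowerSeries k))

/-- If `A` is `t`-adically closed and contains elements of every order `≥ N₀`, then it contains
all power series of order `≥ N₀`. -/
theorem mem_of_order_ge
    (hcl : ∀ f : PowerSeries k, (∀ n : ℕ, ∃ g ∈ A, (n : ℕ∞) ≤ PowerSeries.order (f - g)) → f ∈ A)
    (N₀ : ℕ) (hN : ∀ n : ℕ, N₀ ≤ n → ∃ a ∈ A, PowerSeries.order a = n)
    (h : PowerSeries k) (hh : (N₀ : ℕ∞) ≤ PowerSeries.order h) : h ∈ A := by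
  apply hcl
  have key : ∀ d : ℕ, ∃ g ∈ A, ((N₀ + d : ℕ) : ℕ∞) ≤ PowerSeries.order (h - g) := by
    intro d
    induction d with
    | zero => exact ⟨0, A.zero_mem, by simpa using hh⟩
    | succ d ih =>
      obtain ⟨g, hg, hord⟩ := ih
      obtain ⟨a, ha, hoa⟩ := hN (N₀ + d) (by lia)
      rw [PowerSeries.order_eq_nat] at hoa
      obtain ⟨hμ, hlow⟩ := hoa
      refine ⟨g + (coeff (N₀ + d) (h - g) / coeff (N₀ + d) a) • a,
        A.add_mem hg (A.smul_mem ha _), ?_⟩
      apply PowerSeries.nat_le_order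
      intro i hi
      have hi' : i < N₀ + d ∨ i = N₀ + d := by lia
      rcases hi' with hi' | rfl
      · have h1 : coeff i (h - g) = 0 :=
          PowerSeries.coeff_of_lt_order i (lt_of_lt_of_le (by exact_mod_cast hi') hord)
        have h2 : coeff i a = 0 := hlow i hi'
        have : h - (g + (coeff (N₀ + d) (h - g) / coeff (N₀ + d) a) • a) =
            (h - g) - (coeff (N₀ + d) (h - g) / coeff (N₀ + d) a) • a := by ring
        rw [this, map_sub, h1, PowerSeries.coeff_smul, h2]
        simp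
      · have : h - (g + (coeff (N₀ + d) (h - g) / coeff (N₀ + d) a) • a) =
            (h - g) - (coeff (N₀ + d) (h - g) / coeff (N₀ + d) a) • a := by ring
        rw [this, map_sub, PowerSeries.coeff_smul, smul_eq_mul, div_mul_cancel₀ _ hμ, sub_self]
  intro n
  obtain ⟨g, hg, hord⟩ := key n
  refine ⟨g, hg, le_trans ?_ hord⟩
  exact_mod_cast Nat.le_add_left n N₀

theorem conductor_iff
    (hcl : ∀ f : PowerSeries k, (∀ n : ℕ, ∃ g ∈ A, (n : ℕ∞) ≤ PowerSeries.order (f - g)) → f ∈ A)
    (Γ : Set ℕ) (hΓ : ∀ n : ℕ, n ∈ Γ ↔ ∃ f ∈ A, PowerSeries.order f = n) (c : ℕ)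
    (hc : ∀ n : ℕ, c ≤ n → n ∈ Γ) (hc0 : c ≠ 0) (hc1 : c - 1 ∉ Γ) (f : PowerSeries k) :
    (∀ g : PowerSeries k, g * f ∈ A) ↔ (c : ℕ∞) ≤ PowerSeries.order f := by
  constructor
  · intro h
    by_contra hlt
    rw [not_le] at hlt
    have hf : f ≠ 0 := by
      intro h0
      rw [h0, PowerSeries.order_zero] at hlt
      exact absurd hlt (by simp)
    have hm := PowerSeries.coe_toNat_order hf
    set m := f.order.toNat with hm_def
    have hmc : m < c := by
      rw [← hm] at hlt
      exact_mod_cast hlt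
    apply hc1
    rw [hΓ]
    refine ⟨X ^ (c - 1 - m) * f, h _, ?_⟩
    rw [PowerSeries.order_mul, PowerSeries.order_X_pow, ← hm]
    have : c - 1 - m + m = c - 1 := by lia
    exact_mod_cast this
  · intro h g
    apply mem_of_order_ge A hcl c (fun n hn => (hΓ n).1 (hc n hn))
    calc (c : ℕ∞) ≤ f.order := h
      _ ≤ g.order + f.order := le_add_self
      _ = (g * f).order := (PowerSeries.order_mul g f).symm

end Helper5.PSAlg
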