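import Mathlib
import Groth.Agent.Lib.Helper5.PSAlg.Basic

open PowerSeries

universe u

namespace Helper5.PSAlg

variable {k : Type u} [Field k] (A : Subalgebra k (PowerSeries k))

/-- A common denominator. -/
theorem exists_conductor_elt (hA : Module.Finite ↥A (PowerSeries k))
    (hbir : ∀ f : PowerSeries k, ∃ a ∈ A, a ≠ 0 ∧ a * f ∈ A) :
    ∃ a ∈ A, a ≠ 0 ∧ ∀ f : PowerSeries k, a * f ∈ A := by
  have key : ∀ M : Submodule ↥A (PowerSeries k), M.FG →
      ∃ a ∈ A, a ≠ 0 ∧ ∀ f ∈ M, a * f ∈ A := by
    intro M hM
    refine Submodule.fg_induction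
      (motive := fun (M : Submodule ↥A (PowerSeries k)) _ => ∃ a ∈ A, a ≠ 0 ∧ ∀ f ∈ M, a * f ∈ A)
      ?_ ?_ M hM
    · intro x
      obtain ⟨a, ha, ha0, hax⟩ := hbir x
      refine ⟨a, ha, ha0, ?_⟩
      intro f hf
      rw [Submodule.mem_span_singleton] at hf
      obtain ⟨b, rfl⟩ := hf
      have : a * (b • x) = (b : PowerSeries k) * (a * x) := by
        rw [Subalgebra.smul_def]; ring
      rw [this]
      exact A.mul_mem b.2 hax
    · intro M₁ M₂ _ _ ⟨a₁, h₁, h₁0, h₁'⟩ ⟨a₂, h₂, h₂0, h₂'⟩
      refine ⟨a₁ * a₂, A.mul_mem h₁ h₂, mul_ne_zero h₁0 h₂0, ?_⟩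
      intro f hf
      rw [Submodule.mem_sup] at hf
      obtain ⟨f₁, hf₁, f₂, hf₂, rfl⟩ := hf
      have : a₁ * a₂ * (f₁ + f₂) = a₂ * (a₁ * f₁) + a₁ * (a₂ * f₂) := by ring
      rw [this]
      exact A.add_mem (A.mul_mem h₂ (h₁' _ hf₁)) (A.mul_mem h₁ (h₂' _ hf₂))
  obtain ⟨a, ha, ha0, h⟩ := key ⊤ hA.fg_top
  exact ⟨a, ha, ha0, fun f => h f trivial⟩

/-- All large integers are orders of elements of `A`. -/
theorem exists_bound (hA : Module.Finite ↥A (PowerSeries k))
    (hbir : ∀ f : PowerSeries k, ∃ a ∈ A, a ≠ 0 ∧ a * f ∈ A) :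
    ∃ N : ℕ, ∀ n : ℕ, N ≤ n → ∃ a ∈ A, PowerSeries.order a = n := by
  obtain ⟨a, ha, ha0, h⟩ := exists_conductor_elt A hA hbir
  have hm := PowerSeries.coe_toNat_order ha0
  refine ⟨a.order.toNat, fun n hn => ⟨a * X ^ (n - a.order.toNat), h _, ?_⟩⟩
  rw [PowerSeries.order_mul, PowerSeries.order_X_pow, ← hm]
  have : a.order.toNat + (n - a.order.toNat) = n := by lia
  exact_mod_cast this

section

variable (G : Finset ℕ)

/-- The polynomial `Σ_{n ∈ G} λ_n t^n`. -/
noncomputable def gapSeries : (G → k) →ₗ[k] PowerSeries k where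
  toFun l := PowerSeries.mk (fun i => if h : i ∈ G then l ⟨i, h⟩ else 0)
  map_add' l₁ l₂ := by
    ext i
    simp only [PowerSeries.coeff_mk, map_add]
    split_ifs <;> simp
  map_smul' c l := by
    ext i
    simp only [PowerSeries.coeff_mk, PowerSeries.coeff_smul, RingHom.id_apply]
    split_ifs <;> simp

lemma coeff_gapSeries (l : G → k) (i : ℕ) :
    coeff i (gapSeries G l) = if h : i ∈ G then l ⟨i, h⟩ else 0 := by
  simp [gapSeries]

end

theorem finrank_quot_eq
    (hcl : ∀ f : PowerSeries k, (∀ n : ℕ, ∃ g ∈ A, (n : ℕ∞) ≤ PowerSeries.order (f - g)) → f ∈ A)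
    (G : Finset ℕ) (hG : ∀ n : ℕ, n ∈ G ↔ ¬ ∃ f ∈ A, PowerSeries.order f = n) :
    Module.finrank k (PowerSeries k ⧸ Subalgebra.toSubmodule A) = G.card := by
  classical
  -- bound
  have hN : ∀ n : ℕ, G.sup id + 1 ≤ n → ∃ a ∈ A, PowerSeries.order a = n := by
    intro n hn
    by_contra hcon
    have : n ∈ G := (hG n).2 hcon
    have : n ≤ G.sup id := Finset.le_sup (f := id) this
    lia
  set N := G.sup id + 1 with hNdef
  let φ : (G → k) →ₗ[k] (PowerSeries k ⧸ Subalgebra.toSubmodule A) :=
    (Subalgebra.toSubmodule A).mkQ ∘ₗ gapSeries G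
  have hinj : Function.Injective φ := by
    rw [← LinearMap.ker_eq_bot, LinearMap.ker_eq_bot']
    intro l hl
    have hmem : gapSeries G l ∈ A := by
      have : (Subalgebra.toSubmodule A).mkQ (gapSeries G l) = 0 := hl
      rwa [Submodule.mkQ_apply, Submodule.Quotient.mk_eq_zero] at this
    by_contra hne
    have hne' : gapSeries G l ≠ 0 := by
      intro h0
      apply hne
      ext ⟨i, hi⟩
      have := congrArg (coeff i) h0
      rw [coeff_gapSeries, dif_pos hi] at this
      simpa using this
    have hm := PowerSeries.coe_toNat_order hne'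
    have hcoeff := PowerSeries.coeff_order hne'
    set m := (gapSeries G l).order.toNat
    have hmG : m ∈ G := by
      by_contra hmG
      rw [coeff_gapSeries, dif_neg hmG] at hcoeff
      exact hcoeff rfl
    exact (hG m).1 hmG ⟨_, hmem, hm.symm⟩
  have hsurj : Function.Surjective φ := by
    have key : ∀ d : ℕ, ∀ f : PowerSeries k, ((N - d : ℕ) : ℕ∞) ≤ f.order →
        ∃ l : G → k, f - gapSeries G l ∈ A := by
      intro d
      induction d with
      | zero =>
        intro f hf
        exact ⟨0, by simpa using mem_of_order_ge A hcl N hN f (by simpa using hf)⟩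
      | succ d ih =>
        intro f hf
        by_cases hd : N ≤ d
        · exact ih f (by
            have : N - d = 0 := by lia
            rw [this]; simp)
        push Not at hd
        set m := N - (d + 1) with hmdef
        have hm1 : N - d = m + 1 := by lia
        by_cases hmG : m ∈ G
        · -- gap: subtract the monomial
          obtain ⟨l', hl'⟩ := ih (f - gapSeries G (Pi.single ⟨m, hmG⟩ (coeff m f))) (by
            rw [hm1]
            apply PowerSeries.nat_le_order
            intro i hi
            have hi' : i < m ∨ i = m := by lia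
            rcases hi' with hi' | rfl
            · rw [map_sub, PowerSeries.coeff_of_lt_order i (lt_of_lt_of_le (by exact_mod_cast hi') hf),
                coeff_gapSeries]
              split_ifs with h
              · rw [Pi.single_apply, if_neg (by
                  intro h'
                  have := congrArg Subtype.val h'
                  simp at this
                  lia)]
                simp
              · simp
            · rw [map_sub, coeff_gapSeries, dif_pos hmG, Pi.single_eq_same, sub_self])
          refine ⟨Pi.single ⟨m, hmG⟩ (coeff m f) + l', ?_⟩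
          rw [map_add]
          have : f - (gapSeries G (Pi.single ⟨m, hmG⟩ (coeff m f)) + gapSeries G l') =
            f - gapSeries G (Pi.single ⟨m, hmG⟩ (coeff m f)) - gapSeries G l' := by ring
          rw [this]
          exact hl'
        · -- not a gap
          have hex : ∃ a ∈ A, PowerSeries.order a = m := by
            by_contra hcon
            exact hmG ((hG m).2 hcon)
          obtain ⟨a, ha, hoa⟩ := hex
          rw [PowerSeries.order_eq_nat] at hoa
          obtain ⟨hμ, hlow⟩ := hoa
          obtain ⟨l', hl'⟩ := ih (f - (coeff m f / coeff m a) • a) (by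
            rw [hm1]
            apply PowerSeries.nat_le_order
            intro i hi
            have hi' : i < m ∨ i = m := by lia
            rcases hi' with hi' | rfl
            · rw [map_sub, PowerSeries.coeff_of_lt_order i (lt_of_lt_of_le (by exact_mod_cast hi') hf),
                PowerSeries.coeff_smul, hlow i hi']
              simp
            · rw [map_sub, PowerSeries.coeff_smul, smul_eq_mul, div_mul_cancel₀ _ hμ, sub_self])
          refine ⟨l', ?_⟩
          have : f - gapSeries G l' =
            (f - (coeff m f / coeff m a) • a - gapSeries G l') + (coeff m f / coeff m a) • a := by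
            ring
          rw [this]
          exact A.add_mem hl' (A.smul_mem ha _)
    intro y
    obtain ⟨f, rfl⟩ := Submodule.Quotient.mk_surjective _ y
    obtain ⟨l, hl⟩ := key N f (by simp)
    refine ⟨l, ?_⟩
    change Submodule.Quotient.mk (gapSeries G l) = Submodule.Quotient.mk f
    rw [eq_comm, Submodule.Quotient.eq]
    exact hl
  have e : (G → k) ≃ₗ[k] (PowerSeries k ⧸ Subalgebra.toSubmodule A) :=
    LinearEquiv.ofBijective φ ⟨hinj, hsurj⟩
  rw [← e.finrank_eq, Module.finrank_fintype_fun_eq_card, Fintype.card_coe]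

end Helper5.PSAlg
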